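import Groth.Prelude.Def_PLie
import Mathlib.Algebra.Lie.Basic
import Mathlib.Algebra.CharP.Lemmas
import Mathlib.LinearAlgebra.Basis.Basic

/-!
Elementary properties of p-maps.
-/

universe u v w

namespace Groth.PLieAlg

open PLie

variable {R : Type u} [CommRing R] {p : ℕ} [CharP R p]
  {L : Type v} [LieRing L] [LieAlgebra R L] {L' : Type w} [LieRing L'] [LieAlgebra R L']

lemma map_bracketWord {ι : Type*} (f : L →ₗ⁅R⁆ L') (x : ι → L) (x₁ : L) (l : List ι) :
    f (bracketWord x x₁ l) = bracketWord (f ∘ x) (f x₁) l := by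
  induction l with
  | nil => rfl
  | cons i l ih => simp [ih]

lemma comp_pair (f : L → L') (x₀ x₁ : L) : f ∘ pair x₀ x₁ = pair (f x₀) (f x₁) := by
  funext b; cases b <;> rfl

lemma map_jacobson (f : L →ₗ⁅R⁆ L') (x₀ x₁ : L) :
    f (jacobson R p x₀ x₁) = jacobson R p (f x₀) (f x₁) := by
  simp only [jacobson, ← LieHom.coe_toLinearMap, map_sum, map_smul]
  simp only [LieHom.coe_toLinearMap, map_bracketWord, comp_pair]

/-- brackets of commuting elements vanish -/
lemma bracketWord_pair_eq_zero {x₀ x₁ : L} (h : ⁅x₀, x₁⁆ = 0) {l : List Bool} (hl : l ≠ []) :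
    bracketWord (pair x₀ x₁) x₁ l = 0 := by
  induction l with
  | nil => exact absurd rfl hl
  | cons i l ih =>
    rcases eq_or_ne l [] with rfl | hne
    · cases i <;> simp [pair, h]
    · simp [ih hne]

lemma jacobson_eq_zero [hp : Fact p.Prime] {x₀ x₁ : L} (h : ⁅x₀, x₁⁆ = 0) : jacobson R p x₀ x₁ = 0 := by
  refine Finset.sum_eq_zero fun t _ ↦ ?_
  rw [bracketWord_pair_eq_zero h, smul_zero]
  intro e
  have := congrArg List.length e
  simp only [List.length_ofFn, List.length_nil] at this
  have := hp.out.two_le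
  omega

variable [hp : Fact p.Prime] (φ : PMap R p L)

lemma pmap_zero : φ (0 : L) = 0 := by
  have := φ.map_smul 0 0
  rwa [zero_smul, zero_pow hp.out.ne_zero, zero_smul] at this

lemma lie_pmap (x y : L) : ⁅φ x, y⁆ = (LieAlgebra.ad R L x ^ p) y := by
  rw [← φ.ad_map x]; rfl

lemma pmap_add_of_comm {x y : L} (h : ⁅x, y⁆ = 0) : φ (x + y) = φ x + φ y := by
  change φ.toFun (x + y) = _
  rw [φ.map_add, jacobson_eq_zero h, sub_zero]

/-- Two p-maps agreeing on generators agree. -/
lemma pmap_ext_span {ψ : PMap R p L} {s : Set L} (hs : Submodule.span R s = ⊤) (h : ∀ x ∈ s, φ x = ψ x) :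
    φ = ψ := by
  have key : ∀ x, φ.toFun x = ψ.toFun x := fun x ↦ by
    have hx : x ∈ Submodule.span R s := hs ▸ Submodule.mem_top
    induction hx using Submodule.span_induction with
    | mem x hx => exact h x hx
    | zero => exact (pmap_zero φ).trans (pmap_zero ψ).symm
    | add x y _ _ hx hy => rw [φ.map_add, ψ.map_add, hx, hy]
    | smul c x _ hx => rw [φ.map_smul, ψ.map_smul, hx]
  cases φ; cases ψ; simp only [PMap.mk.injEq]; exact funext key

end Groth.PLieAlg
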