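import Groth.Agent.PLieAlg.Exist
import Mathlib.Algebra.DualNumber
import Mathlib.Algebra.Lie.OfAssociative

/-!
Coordinates for three-dimensional Lie algebras, and dual numbers.
-/

universe u v

namespace Groth.PLieAlg

section Coord

variable {R : Type u} [CommRing R] {L : Type v} [LieRing L] [LieAlgebra R L] (bs : Module.Basis (Fin 3) R L)

/-- The vector with the given three coordinates. -/
noncomputable def vec3 (α β γ : R) : L := α • bs 0 + β • bs 1 + γ • bs 2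

lemma vec3_zero : vec3 bs 0 0 0 = 0 := by simp [vec3]

lemma vec3_basis : vec3 bs 1 0 0 = bs 0 ∧ vec3 bs 0 1 0 = bs 1 ∧ vec3 bs 0 0 1 = bs 2 := by simp [vec3]

lemma exists_vec3 (w : L) : ∃ α β γ, w = vec3 bs α β γ :=
  ⟨bs.repr w 0, bs.repr w 1, bs.repr w 2, by
    conv_lhs => rw [← bs.sum_repr w, Fin.sum_univ_three]
    rfl⟩

lemma vec3_inj {α β γ α' β' γ' : R} : vec3 bs α β γ = vec3 bs α' β' γ' ↔ α = α' ∧ β = β' ∧ γ = γ' := by
  refine ⟨fun h ↦ ⟨?_, ?_, ?_⟩, by rintro ⟨rfl, rfl, rfl⟩; rfl⟩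
  · simpa [vec3, Finsupp.single_apply] using congrArg (fun w ↦ bs.repr w 0) h
  · simpa [vec3, Finsupp.single_apply] using congrArg (fun w ↦ bs.repr w 1) h
  · simpa [vec3, Finsupp.single_apply] using congrArg (fun w ↦ bs.repr w 2) h

variable {A B C D E F G H I : R}

/-- The bracket in coordinates. -/
lemma lie_vec3 (hxy : ⁅bs 0, bs 1⁆ = A • bs 0 + B • bs 1 + C • bs 2)
    (hxz : ⁅bs 0, bs 2⁆ = D • bs 0 + E • bs 1 + F • bs 2)
    (hyz : ⁅bs 1, bs 2⁆ = G • bs 0 + H • bs 1 + I • bs 2) (α β γ α' β' γ' : R) :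
    ⁅vec3 bs α β γ, vec3 bs α' β' γ'⁆ = vec3 bs
      ((α * β' - β * α') * A + (α * γ' - γ * α') * D + (β * γ' - γ * β') * G)
      ((α * β' - β * α') * B + (α * γ' - γ * α') * E + (β * γ' - γ * β') * H)
      ((α * β' - β * α') * C + (α * γ' - γ * α') * F + (β * γ' - γ * β') * I) := by
  have hyx : ⁅bs 1, bs 0⁆ = -(A • bs 0 + B • bs 1 + C • bs 2) := by rw [← lie_skew, hxy]
  have hzx : ⁅bs 2, bs 0⁆ = -(D • bs 0 + E • bs 1 + F • bs 2) := by rw [← lie_skew, hxz]
  have hzy : ⁅bs 2, bs 1⁆ = -(G • bs 0 + H • bs 1 + I • bs 2) := by rw [← lie_skew, hyz]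
  simp only [vec3, lie_add, add_lie, lie_smul, smul_lie, lie_self, hxy, hxz, hyz, hyx, hzx, hzy]
  module

end Coord

section Dual

variable {K : Type u} [Field K]

lemma algebraMap_eq (k : K) : algebraMap K (DualNumber K) k = TrivSqZeroExt.inl k := rfl

/-- `k₀ + k₁ ε`. -/
noncomputable def dual (u v : K) : DualNumber K := algebraMap K (DualNumber K) u + v • DualNumber.eps

@[simp] lemma fst_dual (u v : K) : (dual u v).fst = u := by simp [dual, algebraMap_eq]

@[simp] lemma snd_dual (u v : K) : (dual u v).snd = v := by simp [dual, algebraMap_eq]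

lemma dual_eq (x : DualNumber K) : x = dual x.fst x.snd := by ext <;> simp

lemma dual_ext_iff {x y : DualNumber K} : x = y ↔ x.fst = y.fst ∧ x.snd = y.snd :=
  ⟨by rintro rfl; exact ⟨rfl, rfl⟩, fun ⟨a, b⟩ ↦ TrivSqZeroExt.ext a b⟩

end Dual

end Groth.PLieAlg
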