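import Groth.Agent.PLieAlg.Jacobson
import Groth.Agent.Misc1.PBW

/-!
Existence and uniqueness of p-maps with prescribed values on a basis.
-/

universe u v w

open UniversalEnvelopingAlgebra

namespace Groth.PLieAlg

attribute [local instance 100] LieRing.ofAssociativeRing

variable {R : Type u} [CommRing R] {p : ℕ} [hp : Fact p.Prime] [CharP R p]

lemma commutator_pow {A : Type*} [Ring A] [Algebra R A] (u v : A) :
    (fun z ↦ u * z - z * u)^[p] v = u ^ p * v - v * u ^ p := by
  obtain ⟨q, hq⟩ : ∃ q, q + 1 = p := ⟨p - 1, Nat.sub_add_cancel hp.out.one_le⟩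
  nth_rw 1 [← hq]
  rw [Function.iterate_succ_apply', show q = p - 1 by omega, ad_pow_pred (natCast_p_eq_zero R) u v, Finset.mul_sum,
    Finset.sum_mul, ← Finset.sum_sub_distrib]
  have h1 : ∀ i ∈ Finset.range p, u * (u ^ i * v * u ^ (p - 1 - i)) - u ^ i * v * u ^ (p - 1 - i) * u =
      (fun i ↦ u ^ i * v * u ^ (p - i)) (i + 1) - (fun i ↦ u ^ i * v * u ^ (p - i)) i := fun i hi ↦ by
    have := Finset.mem_range.mp hi
    simp only
    rw [show p - (i + 1) = p - 1 - i by omega, show p - i = (p - 1 - i) + 1 by omega, pow_succ', pow_succ (u)]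
    simp only [mul_assoc]
  rw [Finset.sum_congr rfl h1, Finset.sum_range_sub (fun i ↦ u ^ i * v * u ^ (p - i))]
  simp

variable {L : Type v} [LieRing L] [LieAlgebra R L] {A : Type*} [Ring A] [Algebra R A]

lemma lieHom_ad_pow (e : L →ₗ⁅R⁆ A) (x l : L) :
    e ((LieAlgebra.ad R L x ^ p) l) = e x ^ p * e l - e l * e x ^ p := by
  rw [← commutator_pow (R := R) (e x) (e l)]
  have : ∀ n, e ((LieAlgebra.ad R L x ^ n) l) = (fun z ↦ e x * z - z * e x)^[n] (e l) := by
    intro n
    induction n with
    | zero => rfl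
    | succ n ih =>
      rw [pow_succ', Module.End.mul_apply, LieAlgebra.ad_apply, LieHom.map_lie, ih, Function.iterate_succ_apply',
        LieRing.of_associative_ring_bracket]
  exact this p

theorem existsUnique_pmap {ι : Type w} (b : Module.Basis ι R L) (y : ι → L)
    (hy : ∀ i : ι, LieAlgebra.ad R L (b i) ^ p = LieAlgebra.ad R L (y i)) :
    ∃! φ : PLie.PMap R p L, ∀ i : ι, φ (b i) = y i := by
  classical
  obtain ⟨inst, -⟩ : ∃ _ : LinearOrder ι, True := ⟨WellOrderingRel.isWellOrder.linearOrder, trivial⟩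
  let e : L →ₗ⁅R⁆ UniversalEnvelopingAlgebra R L := UniversalEnvelopingAlgebra.ι R
  let z : ι → UniversalEnvelopingAlgebra R L := fun i ↦ e (b i) ^ p - e (y i)
  let W : Submodule R (UniversalEnvelopingAlgebra R L) := Submodule.span R (Set.range z)
  -- the correction space is central
  have hz : ∀ w ∈ W, ∀ l : L, w * e l = e l * w := by
    intro w hw l
    induction hw using Submodule.span_induction with
    | mem w hw =>
      obtain ⟨i, rfl⟩ := hw
      have h1 := lieHom_ad_pow e (b i) l (p := p)
      rw [hy i, LieAlgebra.ad_apply, LieHom.map_lie, LieRing.of_associative_ring_bracket] at h1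
      simp only [z, sub_mul, mul_sub]
      linear_combination (norm := abel) -h1
    | zero => simp
    | add a b _ _ ha hb => rw [add_mul, mul_add, ha, hb]
    | smul c a _ ha => rw [smul_mul_assoc, mul_smul_comm, ha]
  -- PBW: the correction space meets L trivially
  have hinj : ∀ x : L, e x ∈ W → x = 0 := by
    intro x hx
    obtain ⟨c, hc⟩ := Finsupp.mem_span_range_iff_exists_finsupp.mp hx
    let S := {s : List ι // s.Pairwise (· ≤ ·)}
    have hli := Groth.Misc1.PBW.linearIndependent_mono b
    let top : ι → S := fun i ↦ ⟨List.replicate p i, List.pairwise_replicate.mpr (.inr le_rfl)⟩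
    let one : ι → S := fun i ↦ ⟨[i], List.pairwise_singleton _ _⟩
    let F : ι → S →₀ R := fun i ↦ Finsupp.single (one i) 1
    let lowS : L →ₗ[R] S →₀ R := b.constr R F
    have hlow : ∀ t, Finsupp.linearCombination R (fun s : S ↦ Groth.Misc1.PBW.mono b s.1) (lowS t) = e t := fun t ↦ by
      refine DFunLike.congr_fun (f := Finsupp.linearCombination R _ ∘ₗ lowS) (g := e.toLinearMap) (b.ext fun i ↦ ?_) t
      simp [lowS, F, one, Groth.Misc1.PBW.mono, e]
    have htop : ∀ i, Finsupp.linearCombination R (fun s : S ↦ Groth.Misc1.PBW.mono b s.1) (Finsupp.single (top i) 1) = e (b i) ^ p := fun i ↦ by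
      simp [top, Groth.Misc1.PBW.mono, e]
    have h0 : Finsupp.linearCombination R (fun s : S ↦ Groth.Misc1.PBW.mono b s.1)
        ((c.sum fun i a ↦ a • Finsupp.single (top i) 1) - lowS (x + c.sum fun i a ↦ a • y i)) = 0 := by
      rw [map_sub, hlow, map_add, map_finsuppSum]
      simp only [map_smul, htop]
      rw [← LieHom.coe_toLinearMap, map_finsuppSum]
      simp only [map_smul]
      rw [LieHom.coe_toLinearMap, ← hc, add_comm, ← sub_sub, ← Finsupp.sum_sub, sub_eq_zero]
      exact Finsupp.sum_congr fun i _ ↦ (smul_sub _ _ _).symm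
    have h1 := sub_eq_zero.mp (linearIndependent_iff.mp hli _ h0)
    have hne : ∀ i j, top i ≠ one j := fun i j h ↦ by
      have := congrArg List.length (Subtype.mk.inj h)
      simp at this
      exact hp.out.one_lt.ne' this
    have hlowtop : ∀ t i, lowS t (top i) = 0 := fun t i ↦ by
      refine DFunLike.congr_fun (f := (Finsupp.lapply (top i)) ∘ₗ lowS) (g := 0) (b.ext fun j ↦ ?_) t
      simp [lowS, F, Finsupp.single_apply, (hne i j).symm]
    have hc0 : c = 0 := Finsupp.ext fun i ↦ by
      have h2 := DFunLike.congr_fun h1 (top i)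
      rw [hlowtop, Finsupp.sum_apply] at h2
      have htopinj : Function.Injective top := fun a d h ↦ by
        have := Subtype.mk.inj h
        obtain ⟨q, hq⟩ : ∃ q, p = q + 1 := ⟨p - 1, (Nat.sub_add_cancel hp.out.one_le).symm⟩
        rw [hq, List.replicate_succ, List.replicate_succ, List.cons.injEq] at this
        exact this.1
      simp [Finsupp.single_apply, htopinj.eq_iff, Finsupp.sum_ite_eq'] at h2
      exact h2
    have hinjlow : ∀ t, lowS t = 0 → t = 0 := fun t ht ↦ b.repr.map_eq_zero_iff.mp (Finsupp.ext fun i ↦ by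
      have h2 : lowS t (one i) = b.repr t i := by
        refine DFunLike.congr_fun (f := (Finsupp.lapply (one i)) ∘ₗ lowS) (g := (Finsupp.lapply i) ∘ₗ b.repr.toLinearMap) (b.ext fun j ↦ ?_) t
        have : ∀ {a d : ι}, one a = one d ↔ a = d := fun {a d} ↦ ⟨fun h ↦ by simpa using Subtype.mk.inj h, congrArg _⟩
        simp [lowS, F, Finsupp.single_apply, this]
      rw [← h2, ht]
      rfl)
    subst hc0
    simp only [Finsupp.sum_zero_index, add_zero] at h1
    exact hinjlow x h1.symm
  -- existence of the values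
  have hex : ∀ x : L, ∃ t : L, e x ^ p - e t ∈ W := by
    intro x
    have hx : x ∈ Submodule.span R (Set.range b) := b.span_eq ▸ Submodule.mem_top
    induction hx using Submodule.span_induction with
    | mem x hx => obtain ⟨i, rfl⟩ := hx; exact ⟨y i, Submodule.subset_span ⟨i, rfl⟩⟩
    | zero => exact ⟨0, by simp [zero_pow hp.out.ne_zero]⟩
    | add a d _ _ ha hd =>
      obtain ⟨s, hs⟩ := ha
      obtain ⟨t, ht⟩ := hd
      refine ⟨s + t - PLie.jacobson R p a d, ?_⟩
      rw [map_add, add_pow_eq R, map_sub, map_add, map_jacobson]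
      convert add_mem hs ht using 1
      abel
    | smul c a _ ha =>
      obtain ⟨s, hs⟩ := ha
      exact ⟨c ^ p • s, by rw [map_smul, map_smul, smul_pow, ← smul_sub]; exact W.smul_mem _ hs⟩
  choose f hf using hex
  have hchar : ∀ x t, e x ^ p - e t ∈ W → t = f x := fun x t h ↦ sub_eq_zero.mp (hinj _ (by
    have := W.sub_mem (hf x) h
    rwa [sub_sub_sub_cancel_left, ← map_sub] at this))
  let φ : PLie.PMap R p L :=
    { toFun := f
      map_smul := fun c x ↦ (hchar (c • x) _ (by rw [map_smul, map_smul, smul_pow, ← smul_sub]; exact W.smul_mem _ (hf x))).symm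
      ad_map := fun x ↦ LinearMap.ext fun l ↦ by
        rw [LieAlgebra.ad_apply]
        refine sub_eq_zero.mp (hinj _ ?_)
        have hcomm := hz _ (hf x) l
        rw [sub_mul, mul_sub] at hcomm
        rw [map_sub, LieHom.map_lie, lieHom_ad_pow, LieRing.of_associative_ring_bracket]
        convert W.zero_mem using 1
        linear_combination (norm := abel) -hcomm
      map_add := fun a d ↦ (hchar (a + d) _ (by
        rw [map_add, add_pow_eq R, map_sub, map_add, map_jacobson]
        convert add_mem (hf a) (hf d) using 1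
        abel)).symm }
  have hφ : ∀ i, φ (b i) = y i := fun i ↦ (hchar (b i) (y i) (Submodule.subset_span ⟨i, rfl⟩)).symm
  exact ⟨φ, hφ, fun ψ hψ ↦ pmap_ext_span ψ b.span_eq (by rintro _ ⟨i, rfl⟩; rw [hψ i, hφ i])⟩

end Groth.PLieAlg
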