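import Groth.Agent.PLieAlg.Exist
import Mathlib.RingTheory.FiniteType
import Mathlib.Data.Multiset.Sort
import Mathlib.LinearAlgebra.Quotient.Basic
import Mathlib.Data.Fintype.Pi
import Mathlib.LinearAlgebra.FreeModule.Finite.Matrix

/-!
A finite-dimensional faithful representation of a finite-dimensional restricted Lie algebra, from the
restricted enveloping algebra.
-/

set_option autoImplicit false

universe u v

namespace Groth.PLieAlg.Faithful

open Groth.Misc1.PBW

attribute [local instance 100] LieRing.ofAssociativeRing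

variable {k : Type u} [Field k] {p : ℕ} [hp : Fact p.Prime] [CharP k p]
  {L : Type v} [LieRing L] [LieAlgebra k L] {d : ℕ} (b : Module.Basis (Fin d) k L) (φ : PLie.PMap k p L)

local notation "U" => UniversalEnvelopingAlgebra k L

/-- span of monomials of length less than `n` -/
noncomputable def Lo (n : ℕ) : Submodule k U :=
  Submodule.span k (mono b '' {s | s.length < n})

lemma mono_mem_Lo {n : ℕ} {s : List (Fin d)} (h : s.length < n) : mono b s ∈ Lo b n :=
  Submodule.subset_span ⟨s, h, rfl⟩

lemma Lo_mono {m n : ℕ} (h : m ≤ n) : Lo b m ≤ Lo b n :=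
  Submodule.span_mono (Set.image_mono fun _ hs ↦ lt_of_lt_of_le hs h)

lemma mono_append (s t : List (Fin d)) : mono b (s ++ t) = mono b s * mono b t := by
  simp [mono]

lemma mono_mul_mem (s : List (Fin d)) {n : ℕ} {u : U} (hu : u ∈ Lo b n) : mono b s * u ∈ Lo b (s.length + n) := by
  induction hu using Submodule.span_induction with
  | mem w hw =>
    obtain ⟨t, ht, rfl⟩ := hw
    rw [← mono_append]
    exact mono_mem_Lo b (by simp only [List.length_append]; simpa using ht)
  | zero => simp
  | add a c _ _ ha hc => rw [mul_add]; exact add_mem ha hc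
  | smul r a _ ha => rw [mul_smul_comm]; exact Submodule.smul_mem _ r ha

lemma ι_mul_mem (x : L) {n : ℕ} {u : U} (hu : u ∈ Lo b n) : UniversalEnvelopingAlgebra.ι k x * u ∈ Lo b (n + 1) := by
  rw [← b.sum_repr x, ← LieHom.coe_toLinearMap, map_sum, Finset.sum_mul]
  refine sum_mem fun i _ ↦ ?_
  rw [map_smul, smul_mul_assoc]
  refine Submodule.smul_mem _ _ ?_
  have := mono_mul_mem b [i] hu
  simpa [mono, add_comm] using this

lemma perm_sub_mem {s t : List (Fin d)} (h : s.Perm t) : mono b s - mono b t ∈ Lo b s.length := by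
  induction h with
  | nil => simp
  | cons x _ ih =>
    rw [mono_cons, mono_cons, ← mul_sub, List.length_cons]
    exact ι_mul_mem b _ ih
  | swap x y l =>
    rw [mono_cons, mono_cons, mono_cons, mono_cons, ← mul_assoc, ← mul_assoc, ← sub_mul,
      ← LieRing.of_associative_ring_bracket, ← LieHom.map_lie]
    exact Lo_mono b (by simp) (ι_mul_mem b _ (mono_mem_Lo b (Nat.lt_succ_self l.length)))
  | trans h₁ _ ih₁ ih₂ =>
    have := add_mem ih₁ (h₁.length_eq ▸ ih₂)
    rwa [sub_add_sub_cancel] at this

/-- the sorted word with given multiplicities -/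
noncomputable def word (m : Fin d → ℕ) : List (Fin d) :=
  (∑ i, Multiset.replicate (m i) i).sort (· ≤ ·)

lemma coe_word (m : Fin d → ℕ) : (word m : Multiset (Fin d)) = ∑ i, Multiset.replicate (m i) i :=
  Multiset.sort_eq _ _

lemma count_word (m : Fin d → ℕ) (j : Fin d) : (word m).count j = m j := by
  rw [← Multiset.coe_count, coe_word, Multiset.count_sum']
  simp [Multiset.count_replicate, eq_comm]

lemma length_word (m : Fin d → ℕ) : (word m).length = ∑ i, m i := by
  rw [← Multiset.coe_card, coe_word, Multiset.card_sum]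
  simp

lemma word_injective : Function.Injective (word (d := d)) := fun m n h ↦ funext fun j ↦ by
  rw [← count_word m, h, count_word]

lemma perm_word (s : List (Fin d)) : s.Perm (word fun i ↦ s.count i) :=
  List.perm_iff_count.mpr fun i ↦ (count_word (fun i ↦ s.count i) i).symm

lemma word_add_single_perm (m : Fin d → ℕ) (j : Fin d) (n : ℕ) :
    (List.replicate n j ++ word m).Perm (word (m + Pi.single j n)) :=
  List.perm_iff_count.mpr fun i ↦ by
    rw [List.count_append, count_word, count_word, List.count_replicate, Pi.add_apply, Pi.single_apply, add_comm]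
    rcases eq_or_ne i j with rfl | hne <;> simp [*, Ne.symm]

/-- the ordered monomial -/
noncomputable def g (m : Fin d → ℕ) : U := mono b (word m)

lemma linearIndependent_g : LinearIndependent k (g b) :=
  (linearIndependent_mono b).comp (fun m ↦ ⟨word m, (∑ i, Multiset.replicate (m i) i).pairwise_sort (· ≤ ·)⟩)
    fun m n h ↦ word_injective (Subtype.mk.inj h)

/-- the central elements `xᵢᵖ - φ(xᵢ)` -/
noncomputable def z (i : Fin d) : U :=
  UniversalEnvelopingAlgebra.ι k (b i) ^ p - UniversalEnvelopingAlgebra.ι k (φ (b i))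

lemma commute_z (i : Fin d) (u : U) : u * z b φ i = z b φ i * u := by
  have h1 : ∀ l, UniversalEnvelopingAlgebra.ι k l * z b φ i = z b φ i * UniversalEnvelopingAlgebra.ι k l := fun l ↦ by
    have h := lieHom_ad_pow (UniversalEnvelopingAlgebra.ι k) (b i) l (p := p)
    rw [← lie_pmap φ, LieHom.map_lie, LieRing.of_associative_ring_bracket] at h
    simp only [z, sub_mul, mul_sub]
    linear_combination (norm := abel) h
  have hu : u ∈ Submodule.span k (Set.range fun l : {l : List (Fin d) // l.Pairwise (· ≤ ·)} => mono b l.1) := by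
    rw [span_mono_eq_top]; trivial
  induction hu using Submodule.span_induction with
  | mem w hw =>
    obtain ⟨⟨l, _⟩, rfl⟩ := hw
    dsimp only
    clear * - h1
    induction l with
    | nil => simp [mono]
    | cons a l ih => rw [mono_cons, mul_assoc, ih, ← mul_assoc, h1, mul_assoc]
  | zero => simp
  | add a c _ _ ha hc => rw [add_mul, mul_add, ha, hc]
  | smul r a _ ha => rw [smul_mul_assoc, mul_smul_comm, ha]

/-- the commutative central algebra element for given exponents -/
noncomputable def zpow (a : Fin d → ℕ) : Subalgebra.center k U :=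
  ∏ i, (⟨z b φ i, Subalgebra.mem_center_iff.mpr (commute_z b φ i)⟩ : Subalgebra.center k U) ^ a i

lemma zpow_add_single (a : Fin d → ℕ) (j : Fin d) :
    (zpow b φ (a + Pi.single j 1) : U) = z b φ j * zpow b φ a := by
  have : zpow b φ (a + Pi.single j 1) =
      ⟨z b φ j, Subalgebra.mem_center_iff.mpr (commute_z b φ j)⟩ * zpow b φ a := by
    simp only [zpow, Pi.add_apply, pow_add, Finset.prod_mul_distrib, mul_comm _ (∏ i : Fin d, _ ^ a i)]
    congr 1
    rw [Finset.prod_eq_single j (fun i _ hi ↦ by simp [hi]) (by simp)]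
    simp
  rw [this]
  rfl

/-- the basis adapted to the ideal of the `zᵢ` -/
noncomputable def w (m : Fin d → ℕ) : U :=
  (zpow b φ fun i ↦ m i / p : U) * g b fun i ↦ m i % p

lemma z_mul_w (m : Fin d → ℕ) (j : Fin d) : z b φ j * w b φ m = w b φ (m + Pi.single j p) := by
  have h1 : (fun i ↦ (m + Pi.single j p : Fin d → ℕ) i / p) = (fun i ↦ m i / p) + Pi.single j 1 := funext fun i ↦ by
    rcases eq_or_ne i j with rfl | hne
    · simp [Nat.add_div_right _ hp.out.pos]
    · simp [hne]
  have h2 : (fun i ↦ (m + Pi.single j p : Fin d → ℕ) i % p) = fun i ↦ m i % p := funext fun i ↦ by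
    rcases eq_or_ne i j with rfl | hne <;> simp [*]
  rw [w, w, h1, h2, zpow_add_single, mul_assoc]

lemma w_of_lt {m : Fin d → ℕ} (h : ∀ i, m i < p) : w b φ m = g b m := by
  simp [w, zpow, Nat.div_eq_of_lt (h _), Nat.mod_eq_of_lt (h _)]

lemma w_sub_g_mem : ∀ (n : ℕ) (m : Fin d → ℕ), ∑ i, m i = n → w b φ m - g b m ∈ Lo b n := by
  intro n
  induction n using Nat.strong_induction_on with
  | h n ih =>
    intro m hm
    by_cases hsmall : ∀ i, m i < p
    · simp [w_of_lt b φ hsmall]
    push Not at hsmall
    obtain ⟨j, hj⟩ := hsmall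
    obtain ⟨m', rfl⟩ : ∃ m', m = m' + Pi.single j p := ⟨fun i ↦ if i = j then m i - p else m i, funext fun i ↦ by
      rcases eq_or_ne i j with rfl | hne
      · simp; omega
      · simp [hne]⟩
    have hn : n = (∑ i, m' i) + p := by rw [← hm]; simp [Finset.sum_add_distrib]
    have hp1 := hp.out.one_lt
    have h1 := ih _ (by omega) m' rfl
    have h2 : z b φ j * g b m' - g b (m' + Pi.single j p) ∈ Lo b n := by
      have hz : z b φ j * g b m' = mono b (List.replicate p j ++ word m') -
          UniversalEnvelopingAlgebra.ι k (φ (b j)) * g b m' := by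
        rw [mono_append, g, z, sub_mul]
        simp [mono]
      rw [hz, sub_right_comm]
      refine sub_mem ?_ (Lo_mono b (by omega) (ι_mul_mem b _ (mono_mem_Lo b (n := ∑ i, m' i + 1) (by simp [length_word]))))
      have := perm_sub_mem b (word_add_single_perm m' j p)
      simp only [List.length_append, List.length_replicate, length_word] at this
      rwa [hn, add_comm _ p]
    have h3 : z b φ j * (w b φ m' - g b m') ∈ Lo b n := by
      rw [z, sub_mul]
      refine sub_mem ?_ (Lo_mono b (by omega) (ι_mul_mem b _ h1))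
      have := mono_mul_mem b (List.replicate p j) h1
      simp only [List.length_replicate] at this
      rw [hn, add_comm _ p]
      convert this using 2
      simp [mono]
    rw [← z_mul_w]
    have := add_mem h3 h2
    rwa [mul_sub, sub_add_sub_cancel] at this

lemma Lo_le_span : ∀ n, Lo b n ≤ Submodule.span k (g b '' {m | ∑ i, m i < n}) ∧
    Lo b n ≤ Submodule.span k (Set.range (w b φ)) := by
  intro n
  induction n with
  | zero => simp [Lo]
  | succ n ih =>
    have hsub : Submodule.span k (g b '' {m | ∑ i, m i < n}) ≤ Submodule.span k (g b '' {m | ∑ i, m i < n + 1}) :=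
      Submodule.span_mono (Set.image_mono fun m (hm : _ < n) ↦ Nat.lt_succ_of_lt hm)
    have key : ∀ s : List (Fin d), s.length < n + 1 →
        mono b s ∈ Submodule.span k (g b '' {m | ∑ i, m i < n + 1}) ∧ mono b s ∈ Submodule.span k (Set.range (w b φ)) := by
      intro s hs
      rcases Nat.lt_succ_iff_lt_or_eq.mp hs with hlt | rfl
      · exact ⟨hsub (ih.1 (mono_mem_Lo b hlt)), ih.2 (mono_mem_Lo b hlt)⟩
      set m : Fin d → ℕ := fun i ↦ s.count i
      have hm : ∑ i, m i = s.length := by rw [← length_word, (perm_word s).length_eq]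
      have hperm := perm_sub_mem b (perm_word s)
      have hw := w_sub_g_mem b φ _ m hm
      have hg : g b m ∈ Submodule.span k (g b '' {m | ∑ i, m i < s.length + 1}) :=
        Submodule.subset_span ⟨m, by simp only [Set.mem_ofPred_eq]; omega, rfl⟩
      have hw' : w b φ m ∈ Submodule.span k (Set.range (w b φ)) := Submodule.subset_span ⟨m, rfl⟩
      refine ⟨?_, ?_⟩
      · simpa [g, m] using add_mem (hsub (ih.1 hperm)) hg
      · simpa [g, m] using add_mem (sub_mem (ih.2 hperm) (ih.2 hw)) hw'
    exact ⟨Submodule.span_le.mpr (by rintro _ ⟨s, hs, rfl⟩; exact (key s hs).1),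
      Submodule.span_le.mpr (by rintro _ ⟨s, hs, rfl⟩; exact (key s hs).2)⟩

lemma span_w : Submodule.span k (Set.range (w b φ)) = ⊤ := by
  rw [eq_top_iff, ← span_mono_eq_top b, Submodule.span_le]
  rintro _ ⟨⟨s, _⟩, rfl⟩
  exact (Lo_le_span b φ (s.length + 1)).2 (mono_mem_Lo b (Nat.lt_succ_self _))

lemma linearIndependent_w : LinearIndependent k (w b φ) := by
  classical
  refine linearIndependent_iff.mpr fun c hc ↦ ?_
  by_contra hne
  obtain ⟨m₀, hm₀, hmax⟩ := c.support.exists_max_image (fun m ↦ ∑ i, m i) (Finsupp.support_nonempty_iff.mpr hne)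
  set n := ∑ i, m₀ i
  have h1 : Finsupp.linearCombination k (g b) c - Finsupp.linearCombination k (g b) (c.filter fun m ↦ ∑ i, m i < n) -
      Finsupp.linearCombination k (w b φ) c ∈ Lo b n := by
    set c₁ := c.filter fun m ↦ ∑ i, m i < n
    set c₂ := c.filter fun m ↦ ¬ ∑ i, m i < n
    have hsplit : c₁ + c₂ = c := Finsupp.filter_add_filter_not c _
    rw [show Finsupp.linearCombination k (g b) c =
        Finsupp.linearCombination k (g b) c₁ + Finsupp.linearCombination k (g b) c₂ by rw [← map_add, hsplit],
      show Finsupp.linearCombination k (w b φ) c =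
        Finsupp.linearCombination k (w b φ) c₁ + Finsupp.linearCombination k (w b φ) c₂ by rw [← map_add, hsplit],
      add_sub_cancel_left, sub_add_eq_sub_sub_swap]
    refine sub_mem ?_ ?_
    · simp only [Finsupp.linearCombination_apply, Finsupp.sum, ← Finset.sum_sub_distrib, ← smul_sub]
      refine sum_mem fun m hm ↦ Submodule.smul_mem _ _ ?_
      rw [← neg_sub]
      refine neg_mem (Lo_mono b ?_ (w_sub_g_mem b φ _ m rfl))
      simp only [c₂, Finsupp.support_filter, Finset.mem_filter] at hm
      exact hmax m hm.1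
    · simp only [Finsupp.linearCombination_apply, Finsupp.sum]
      refine sum_mem fun m hm ↦ Submodule.smul_mem _ _ ?_
      simp only [c₁, Finsupp.support_filter, Finset.mem_filter] at hm
      have := w_sub_g_mem b φ _ m rfl
      have hg : g b m ∈ Lo b n := mono_mem_Lo b (by simpa [length_word] using hm.2)
      simpa using add_mem (Lo_mono b hm.2.le this) hg
  rw [hc, sub_zero, ← map_sub] at h1
  obtain ⟨e, he, hee⟩ := Finsupp.mem_span_image_iff_linearCombination k |>.mp ((Lo_le_span b φ n).1 h1)
  have h2 := (linearIndependent_g b).finsuppLinearCombination_injective hee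
  have h3 := DFunLike.congr_fun h2 m₀
  rw [Finsupp.notMem_support_iff.mp fun h ↦ lt_irrefl n ((Finsupp.mem_supported k e).mp he h), Finsupp.sub_apply,
    Finsupp.filter_apply_neg (fun m : Fin d → ℕ ↦ ∑ i, m i < n) c (lt_irrefl n), sub_zero] at h3
  exact Finsupp.mem_support_iff.mp hm₀ h3.symm

/-- the left (in fact two-sided) ideal of the `zᵢ` -/
noncomputable def J : Submodule U U := Submodule.span U (Set.range (z b φ))

lemma mem_J_iff_le : ((J b φ).restrictScalars k) ≤ Submodule.span k (w b φ '' {m | ∃ i, p ≤ m i}) := by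
  intro u hu
  rw [Submodule.restrictScalars_mem, J, Submodule.mem_span_range_iff_exists_fun] at hu
  obtain ⟨c, rfl⟩ := hu
  refine sum_mem fun j _ ↦ ?_
  rw [smul_eq_mul, commute_z]
  have hc : c j ∈ Submodule.span k (Set.range (w b φ)) := span_w b φ ▸ Submodule.mem_top
  generalize c j = u at hc ⊢
  induction hc using Submodule.span_induction with
  | mem x hx =>
    obtain ⟨m, rfl⟩ := hx
    exact Submodule.subset_span ⟨_, ⟨j, by simp⟩, (z_mul_w b φ m j).symm⟩
  | zero => simp
  | add a a' _ _ ha ha' => rw [mul_add]; exact add_mem ha ha'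
  | smul r a _ ha => rw [mul_smul_comm]; exact Submodule.smul_mem _ r ha

lemma w_single (i : Fin d) : w b φ (Pi.single i 1) = UniversalEnvelopingAlgebra.ι k (b i) := by
  rw [w_of_lt b φ fun j ↦ ?_, g]
  · have h : (word (Pi.single i 1)).Perm [i] := List.perm_iff_count.mpr fun j ↦ by
      rw [count_word]
      rcases eq_or_ne j i with rfl | hne <;> simp [*, Ne.symm]
    rw [List.perm_singleton.mp h]
    simp [mono]
  · have := hp.out.one_lt
    rcases eq_or_ne j i with rfl | hne <;> simp [*] <;> omega

lemma eq_zero_of_mem_J {x : L} (hx : UniversalEnvelopingAlgebra.ι k x ∈ J b φ) : x = 0 := by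
  classical
  obtain ⟨e, he, hee⟩ := Finsupp.mem_span_image_iff_linearCombination k |>.mp
    (mem_J_iff_le b φ ((Submodule.restrictScalars_mem k _ _).mpr hx))
  let single1 : Fin d → (Fin d → ℕ) := fun i ↦ Pi.single i 1
  have hinj : Function.Injective single1 := fun i j h ↦ by
    by_contra hne
    have := congrFun h i
    simp [single1, Pi.single_apply, hne] at this
  have h1 : Finsupp.linearCombination k (w b φ) ((b.repr x).mapDomain single1) =
      UniversalEnvelopingAlgebra.ι k x := by
    rw [Finsupp.linearCombination_mapDomain, show w b φ ∘ single1 = (UniversalEnvelopingAlgebra.ι k).toLinearMap ∘ b from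
      funext fun i ↦ w_single b φ i, ← Finsupp.apply_linearCombination, b.linearCombination_repr]
    rfl
  have h2 := (linearIndependent_w b φ).finsuppLinearCombination_injective (h1.trans hee.symm)
  refine b.repr.map_eq_zero_iff.mp (Finsupp.ext fun i ↦ ?_)
  rw [← Finsupp.mapDomain_apply hinj (b.repr x) i, h2, Finsupp.zero_apply]
  refine Finsupp.notMem_support_iff.mp fun h ↦ ?_
  obtain ⟨j, hj⟩ := (Finsupp.mem_supported k e).mp he h
  have := hp.out.one_lt
  rcases eq_or_ne j i with rfl | hne <;> simp [single1, Pi.single_apply, *] at hj <;> omega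

lemma pow_sub_mem (x : L) :
    UniversalEnvelopingAlgebra.ι k x ^ p - UniversalEnvelopingAlgebra.ι k (φ x) ∈
      Submodule.span k (Set.range (z b φ)) := by
  have hx : x ∈ Submodule.span k (Set.range b) := b.span_eq ▸ Submodule.mem_top
  induction hx using Submodule.span_induction with
  | mem x hx => obtain ⟨i, rfl⟩ := hx; exact Submodule.subset_span ⟨i, rfl⟩
  | zero => simp [pmap_zero φ, zero_pow hp.out.ne_zero]
  | add a a' _ _ ha ha' =>
    rw [show φ (a + a') = _ from φ.map_add a a', map_add, add_pow_eq k, map_sub, map_add, map_jacobson]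
    convert add_mem ha ha' using 1
    abel
  | smul c a _ ha =>
    rw [show φ (c • a) = _ from φ.map_smul c a, map_smul, map_smul, smul_pow, ← smul_sub]
    exact Submodule.smul_mem _ _ ha

instance : IsScalarTower k U (U ⧸ J b φ) := inferInstance

lemma finite_quotient : Module.Finite k (U ⧸ J b φ) := by
  classical
  let f : U →ₗ[k] U ⧸ J b φ := (J b φ).mkQ.restrictScalars k
  refine ⟨Submodule.fg_def.mpr ⟨Set.range fun m : Fin d → Fin p ↦ f (w b φ fun i ↦ m i), Set.finite_range _, ?_⟩⟩
  rw [eq_top_iff, ← LinearMap.range_eq_top.mpr (show Function.Surjective f from (J b φ).mkQ_surjective),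
    LinearMap.range_eq_map, ← span_w b φ, Submodule.map_span, Submodule.span_le]
  rintro _ ⟨_, ⟨m, rfl⟩, rfl⟩
  by_cases hsmall : ∀ i, m i < p
  · exact Submodule.subset_span ⟨fun i ↦ ⟨m i, hsmall i⟩, rfl⟩
  push Not at hsmall
  obtain ⟨j, hj⟩ := hsmall
  obtain ⟨m', rfl⟩ : ∃ m', m = m' + Pi.single j p := ⟨fun i ↦ if i = j then m i - p else m i, funext fun i ↦ by
    rcases eq_or_ne i j with rfl | hne
    · simp; omega
    · simp [hne]⟩
  have : f (w b φ (m' + Pi.single j p)) = 0 := by
    rw [← z_mul_w, ← commute_z]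
    exact (Submodule.Quotient.mk_eq_zero _).mpr
      (Submodule.smul_mem _ (w b φ m') (Submodule.subset_span ⟨j, rfl⟩))
  rw [this]
  exact Submodule.zero_mem _

theorem exists_isPSubOfAssoc_matrix [Module.Finite k L] (ψ : PLie.PMap k p L) :
    ∃ (n : ℕ) (e : L →ₗ[k] Matrix (Fin n) (Fin n) k), PLie.IsPSubOfAssoc ψ e := by
  let b := Module.finBasis k L
  let V := U ⧸ J b ψ
  have := finite_quotient b ψ
  let M := algEquivMatrix (Module.finBasis k V)
  let ρ : U →ₐ[k] Matrix (Fin (Module.finrank k V)) (Fin (Module.finrank k V)) k :=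
    M.toAlgHom.comp (Algebra.lsmul k k V)
  refine ⟨_, ρ.toLinearMap ∘ₗ (UniversalEnvelopingAlgebra.ι k).toLinearMap, ?_, fun x y ↦ ?_, fun x ↦ ?_⟩
  · refine (injective_iff_map_eq_zero (ρ.toLinearMap ∘ₗ (UniversalEnvelopingAlgebra.ι k).toLinearMap)).mpr fun x hx ↦ eq_zero_of_mem_J b ψ ?_
    have h : Algebra.lsmul k k V (UniversalEnvelopingAlgebra.ι k x) = 0 := M.injective (hx.trans (map_zero M).symm)
    have h1 := DFunLike.congr_fun h (Submodule.Quotient.mk 1 : V)
    rw [Algebra.lsmul_apply, ← Submodule.Quotient.mk_smul, smul_eq_mul, mul_one, LinearMap.zero_apply,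
      Submodule.Quotient.mk_eq_zero] at h1
    exact h1
  · change ρ (UniversalEnvelopingAlgebra.ι k ⁅x, y⁆) = _
    rw [LieHom.map_lie, LieRing.of_associative_ring_bracket, map_sub, map_mul, map_mul]
    rfl
  · change ρ (UniversalEnvelopingAlgebra.ι k (ψ x)) = ρ (UniversalEnvelopingAlgebra.ι k x) ^ p
    rw [← map_pow, eq_comm, ← sub_eq_zero, ← map_sub]
    have hmem := pow_sub_mem b ψ x
    generalize UniversalEnvelopingAlgebra.ι k x ^ p - UniversalEnvelopingAlgebra.ι k (ψ x) = r at hmem ⊢
    induction hmem using Submodule.span_induction with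
    | mem u hu =>
      obtain ⟨i, rfl⟩ := hu
      have : Algebra.lsmul k k V (z b ψ i) = 0 := LinearMap.ext fun v ↦ by
        obtain ⟨v, rfl⟩ := Submodule.Quotient.mk_surjective _ v
        rw [Algebra.lsmul_apply, ← Submodule.Quotient.mk_smul, LinearMap.zero_apply, Submodule.Quotient.mk_eq_zero,
          smul_eq_mul, ← commute_z]
        exact Submodule.smul_mem _ v (Submodule.subset_span ⟨i, rfl⟩)
      change M (Algebra.lsmul k k V (z b ψ i)) = 0
      rw [this, map_zero]
    | zero => exact map_zero ρ
    | add u u' _ _ hu hu' => rw [map_add, hu, hu', add_zero]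
    | smul c u _ hu => rw [map_smul, hu, smul_zero]

end Groth.PLieAlg.Faithful
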