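import Groth.Agent.PLieAlg.Basic
import Mathlib.Algebra.Polynomial.Derivative
import Mathlib.Algebra.Polynomial.Eval.Degree
import Mathlib.Algebra.Algebra.Hom
import Mathlib.Data.Nat.Choose.Dvd

/-!
Jacobson's formula in associative algebras of characteristic `p`.
-/

universe u v

open Polynomial

namespace Groth.PLieAlg

attribute [local instance 100] LieRing.ofAssociativeRing

section CharP

variable {S : Type v} [Ring S] {p : ℕ} [hp : Fact p.Prime]

lemma choose_pred_eq (hpS : (p : S) = 0) : ∀ i, i < p → ((p - 1).choose i : S) = (-1) ^ i := by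
  intro i
  induction i with
  | zero => simp
  | succ i ih =>
    intro hi
    have h := Nat.choose_succ_succ (p - 1) i
    rw [Nat.succ_eq_add_one, Nat.sub_add_cancel hp.out.one_le] at h
    obtain ⟨c, hc⟩ := hp.out.dvd_choose_self (Nat.succ_ne_zero i) hi
    have h' : ((p - 1).choose i : S) + ((p - 1).choose (i + 1) : S) = 0 := by
      rw [← Nat.cast_add, ← h, hc, Nat.cast_mul, hpS, zero_mul]
    rw [eq_neg_of_add_eq_zero_right h', ih (by omega), pow_succ]
    simp

lemma ad_pow_pred (hpS : (p : S) = 0) (u v : S) :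
    ((fun z ↦ u * z - z * u)^[p - 1]) v = ∑ i ∈ Finset.range p, u ^ i * v * u ^ (p - 1 - i) := by
  let L : Module.End ℤ S := LinearMap.mulLeft ℤ u
  let R : Module.End ℤ S := LinearMap.mulRight ℤ u
  have hLR : Commute L R := LinearMap.commute_mulLeft_right u u
  have hcomm : Commute L (-R) := hLR.neg_right
  have hpow : ∀ n, ((fun z ↦ u * z - z * u)^[n]) v = ((L + -R) ^ n) v := by
    intro n
    induction n with
    | zero => rfl
    | succ n ih =>
      rw [Function.iterate_succ_apply', ih, pow_succ', Module.End.mul_apply]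
      simp only [LinearMap.add_apply, LinearMap.neg_apply, L, R, LinearMap.mulLeft_apply, LinearMap.mulRight_apply, sub_eq_add_neg]
  have hpE : (p : Module.End ℤ S) = 0 := LinearMap.ext fun z ↦ by
    rw [Module.End.natCast_apply, nsmul_eq_mul, hpS, zero_mul, LinearMap.zero_apply]
  have h1 : ((-1) ^ (p - 1) : Module.End ℤ S) = 1 := by
    rw [← choose_pred_eq hpE (p - 1) (by have := hp.out.pos; omega), Nat.choose_self, Nat.cast_one]
  have hsign : ∀ i, i < p → L ^ i * (-R) ^ (p - 1 - i) * ((p - 1).choose i : Module.End ℤ S) = L ^ i * R ^ (p - 1 - i) := by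
    intro i hi
    have hc : ∀ (j : ℕ) (x : Module.End ℤ S), x * (-1) ^ j = (-1) ^ j * x := fun j x ↦ ((Commute.neg_one_left x).pow_left j).eq.symm
    rw [choose_pred_eq hpE i hi, neg_pow R, hc, ← mul_assoc, ← mul_assoc, ← hc i (L ^ i), mul_assoc (L ^ i) ((-1) ^ i),
      ← pow_add, Nat.add_sub_cancel' (by omega), h1, mul_one]
  rw [hpow, hcomm.add_pow, LinearMap.sum_apply, Nat.sub_add_cancel hp.out.one_le]
  refine Finset.sum_congr rfl fun i hi ↦ ?_
  rw [hsign i (Finset.mem_range.mp hi), Module.End.mul_apply, LinearMap.pow_mulLeft, LinearMap.pow_mulRight,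
    LinearMap.mulLeft_apply, LinearMap.mulRight_apply, mul_assoc]

end CharP

section Assoc

variable {R : Type u} [CommRing R] {p : ℕ} [hp : Fact p.Prime] [CharP R p] {A : Type v} [Ring A] [Algebra R A]

variable (R) in
include R in
omit hp in
lemma natCast_p_eq_zero : (p : A) = 0 := by rw [← map_natCast (algebraMap R A), CharP.cast_eq_zero, map_zero]

/-- The polynomial `(T x₀ + x₁)`. -/
noncomputable def lin (x₀ x₁ : A) : A[X] := C x₀ * X + C x₁

/-- number of `false` entries -/
noncomputable def nf {n : ℕ} (t : Fin n → Bool) : ℕ := Fintype.card {i // t i = false}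

lemma nf_cons {n : ℕ} (b : Bool) (t : Fin n → Bool) :
    nf (Fin.cons b t : Fin (n + 1) → Bool) = (if b = false then 1 else 0) + nf t := by
  simp only [nf, Fintype.card_subtype, Finset.card_filter, Fin.sum_univ_succ, Fin.cons_zero, Fin.cons_succ]

lemma lin_bracket (x₀ x₁ a : A) (m : ℕ) :
    lin x₀ x₁ * (C a * X ^ m) - C a * X ^ m * lin x₀ x₁ = C ⁅x₀, a⁆ * X ^ (m + 1) + C ⁅x₁, a⁆ * X ^ m := by
  simp only [lin, add_mul, mul_add, LieRing.of_associative_ring_bracket, map_sub, map_mul, sub_mul]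
  have e1 : C x₀ * X * (C a * X ^ m) = C x₀ * C a * X ^ (m + 1) := by
    rw [mul_assoc, ← mul_assoc X, X_mul_C, mul_assoc, ← pow_succ', ← mul_assoc]
  have e2 : C a * X ^ m * (C x₀ * X) = C a * C x₀ * X ^ (m + 1) := by
    rw [mul_assoc, ← mul_assoc (X ^ m), X_pow_mul_C, mul_assoc, ← pow_succ, ← mul_assoc]
  have e3 : C a * X ^ m * C x₁ = C a * C x₁ * X ^ m := by rw [mul_assoc, X_pow_mul_C, ← mul_assoc]
  rw [e1, e2, e3, ← mul_assoc]
  abel

lemma ad_iterate (x₀ x₁ : A) (n : ℕ) :
    (fun z ↦ lin x₀ x₁ * z - z * lin x₀ x₁)^[n] (C x₁) =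
      ∑ t : Fin n → Bool, C (PLie.bracketWord (PLie.pair x₀ x₁) x₁ (List.ofFn t)) * X ^ nf t := by
  induction n with
  | zero => simp [nf]
  | succ n ih =>
    have e : ∀ (b : Bool) (t : Fin n → Bool), (Fin.consEquiv fun _ : Fin (n + 1) ↦ Bool) (b, t) = Fin.cons b t := fun _ _ ↦ rfl
    rw [Function.iterate_succ_apply', ih, ← (Fin.consEquiv fun _ ↦ Bool).sum_comp, Fintype.sum_prod_type,
      Fintype.sum_bool, Finset.mul_sum, Finset.sum_mul, ← Finset.sum_sub_distrib, ← Finset.sum_add_distrib]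
    refine Finset.sum_congr rfl fun t _ ↦ ?_
    rw [e, e, lin_bracket, List.ofFn_succ, List.ofFn_succ, nf_cons, nf_cons, add_comm]
    simp [PLie.pair, add_comm 1 (nf t)]

variable (R) in
include R in
lemma mul_derivative_pow (x₀ x₁ : A) :
    X * derivative (lin x₀ x₁ ^ p) = -((fun z ↦ lin x₀ x₁ * z - z * lin x₀ x₁)^[p - 1] (C x₁)) := by
  set u := lin x₀ x₁
  have hd : ∀ n, derivative (u ^ n) = ∑ i ∈ Finset.range n, u ^ i * C x₀ * u ^ (n - 1 - i) := by
    intro n
    induction n with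
    | zero => simp
    | succ n ih =>
      rw [pow_succ, derivative_mul, ih, show derivative u = C x₀ by simp [u, lin], Finset.sum_range_succ,
        Finset.sum_mul, show n + 1 - 1 - n = 0 by omega, pow_zero, mul_one]
      congr 1
      refine Finset.sum_congr rfl fun i hi ↦ ?_
      rw [mul_assoc, ← pow_succ]
      congr 2
      have := Finset.mem_range.mp hi
      omega
  have hp0 : ((p : ℕ) : A[X]) = 0 := by rw [← C_eq_natCast, natCast_p_eq_zero R, C_0]
  have key : (fun z ↦ u * z - z * u)^[p - 1] (X * C x₀ + C x₁) = 0 := by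
    rw [show X * C x₀ + C x₁ = u by rw [X_mul]; rfl]
    have : 0 < p - 1 := by have := hp.out.two_le; omega
    obtain ⟨m, hm⟩ := Nat.exists_eq_add_of_le' this
    rw [hm, Function.iterate_succ_apply, sub_self]
    exact Function.iterate_fixed (by simp) m
  rw [ad_pow_pred hp0] at key ⊢
  rw [hd, eq_neg_iff_add_eq_zero, Finset.mul_sum]
  refine Eq.trans ?_ key
  rw [← Finset.sum_add_distrib]
  refine Finset.sum_congr rfl fun i _ ↦ ?_
  rw [mul_add, add_mul, ← mul_assoc, ← mul_assoc, ← mul_assoc, (commute_X (u ^ i)).eq]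

variable (R) in
theorem add_pow_eq (x₀ x₁ : A) : (x₀ + x₁) ^ p = x₀ ^ p + x₁ ^ p - PLie.jacobson R p x₀ x₁ := by
  set u := lin x₀ x₁
  let W : ℕ → A := fun r ↦ ∑ t ∈ Finset.univ.filter (fun t : Fin (p - 1) → Bool ↦ nf t = r),
    PLie.bracketWord (PLie.pair x₀ x₁) x₁ (List.ofFn t)
  have hp1 := hp.out.one_le
  have hcoef : ∀ r, 0 < r → r ≤ p → (r : A) * (u ^ p).coeff r = -W r := by
    intro r hr _
    obtain ⟨s, rfl⟩ := Nat.exists_eq_add_of_le' hr
    have h := congrArg (fun q ↦ Polynomial.coeff q (s + 1)) (mul_derivative_pow R x₀ x₁ (p := p))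
    simp only [coeff_X_mul, coeff_derivative, ad_iterate, coeff_neg, finsetSum_coeff, coeff_C_mul_X_pow] at h
    rw [Finset.sum_ite, Finset.sum_const_zero, add_zero] at h
    rw [Nat.cast_succ, ((Nat.commute_cast ((lin x₀ x₁ ^ p).coeff (s + 1)) s).symm.add_left (Commute.one_left _)).eq]
    refine h.trans (congrArg Neg.neg ?_)
    exact Finset.sum_congr (Finset.filter_congr fun t _ ↦ eq_comm) fun _ _ ↦ rfl
  have hsolve : ∀ r, 0 < r → r < p → (u ^ p).coeff r = -((ZMod.castHom (dvd_refl p) R) ((r : ZMod p)⁻¹) • W r) := by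
    intro r hr hrp
    rw [← smul_neg, ← hcoef r hr hrp.le, ← nsmul_eq_mul, ← Nat.cast_smul_eq_nsmul R, smul_smul]
    have hne : (r : ZMod p) ≠ 0 := fun e ↦ by
      rw [ZMod.natCast_eq_zero_iff] at e; exact absurd (Nat.le_of_dvd hr e) (by omega)
    rw [← map_natCast (ZMod.castHom (dvd_refl p) R) r, ← map_mul, ZMod.inv_mul_of_unit _ ((ZMod.isUnit_iff_coprime r p).mpr ((hp.out.coprime_iff_not_dvd.mpr fun d ↦ hne ((ZMod.natCast_eq_zero_iff r p).mpr d)).symm)), map_one, one_smul]
  have hdeg : (u ^ p).natDegree ≤ p := (natDegree_pow_le_of_le p (natDegree_linear_le : u.natDegree ≤ 1)).trans (by omega)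
  have hlin : u.natDegree ≤ 1 := natDegree_linear_le
  have hev : (x₀ + x₁) ^ p = ∑ r ∈ Finset.range (p + 1), (u ^ p).coeff r := by
    have e := eval_eq_sum_range' (lt_of_le_of_lt hdeg (Nat.lt_succ_self p)) (1 : A)
    simp only [one_pow, mul_one] at e
    rw [← e]
    change _ = (eval₂RingHom' (RingHom.id A) (1 : A) (fun a ↦ Commute.one_right a)) (u ^ p)
    rw [map_pow]
    simp [u, lin]
  have h0 : (u ^ p).coeff 0 = x₁ ^ p := by
    change constantCoeff (u ^ p) = _
    rw [map_pow]
    simp [u, lin]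
  have hpp : (u ^ p).coeff p = x₀ ^ p := by
    rw [show (u ^ p).coeff p = u.coeff 1 ^ p by
      have key : ∀ n, (u ^ n).coeff n = u.coeff 1 ^ n := fun n ↦ by
        induction n with
        | zero => simp
        | succ n ih =>
          rw [pow_succ, pow_succ, ← ih]
          exact coeff_mul_add_eq_of_natDegree_le ((natDegree_pow_le_of_le n hlin).trans (by omega)) hlin
      exact key p]
    simp [u, lin]
  obtain ⟨q, hq⟩ : ∃ q, q = p - 1 := ⟨_, rfl⟩
  have hq1 : q + 1 = p := by omega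
  have e1 : ∑ r ∈ Finset.range p, (u ^ p).coeff r = x₁ ^ p + ∑ r ∈ Finset.range (p - 1), (u ^ p).coeff (r + 1) := by
    conv_lhs => rw [show Finset.range p = Finset.range (q + 1) by rw [hq1]]
    rw [Finset.sum_range_succ', h0, hq, add_comm]
  rw [hev, Finset.sum_range_succ, hpp, e1, Finset.sum_congr rfl (fun r hr ↦ hsolve (r + 1) (by omega)
      (by have := Finset.mem_range.mp hr; omega)), Finset.sum_neg_distrib]
  have hJ : PLie.jacobson R p x₀ x₁ =
      ∑ r ∈ Finset.range (p - 1), (ZMod.castHom (dvd_refl p) R) (((r + 1 : ℕ) : ZMod p)⁻¹) • W (r + 1) := by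
    rw [PLie.jacobson, ← Finset.sum_fiberwise_of_maps_to (g := nf) (t := Finset.range (q + 1)) fun t _ ↦ Finset.mem_range.mpr
      (lt_of_le_of_lt ((Fintype.card_subtype_le _).trans_eq (Fintype.card_fin _)) (by omega)), Finset.sum_range_succ', hq]
    rw [Finset.sum_eq_zero (s := Finset.univ.filter fun t : Fin (p - 1) → Bool ↦ nf t = 0), add_zero]
    · refine Finset.sum_congr rfl fun r _ ↦ ?_
      rw [Finset.smul_sum]
      refine Finset.sum_congr rfl fun t ht ↦ ?_
      rw [← (Finset.mem_filter.mp ht).2]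
      rfl
    · intro t ht
      rw [show (Fintype.card {i // t i = false} : ℕ) = 0 from (Finset.mem_filter.mp ht).2, Nat.cast_zero,
        ZMod.inv_zero, map_zero, zero_smul]
  rw [hJ]
  abel

end Assoc

end Groth.PLieAlg
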