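import Groth.Agent.PLieAlg.Basic
import Mathlib.Algebra.Lie.Engel
import Mathlib.Algebra.Lie.Solvable
import Mathlib.RingTheory.Noetherian.Basic
import Mathlib.LinearAlgebra.FreeModule.Finite.Basic

/-!
Radical and nilradical of a restricted Lie algebra.
-/

universe u v

namespace Groth.PLieAlg

section Ideals

variable {R : Type u} [CommRing R] {L : Type v} [LieRing L] [LieAlgebra R L]

/-- Adjoin to an ideal an element central modulo it. -/
def extendIdeal (I : LieIdeal R L) (y : L) (hy : ∀ z : L, ⁅z, y⁆ ∈ I) : LieIdeal R L where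
  toSubmodule := I.toSubmodule ⊔ Submodule.span R {y}
  lie_mem {z m} hm := by
    obtain ⟨i, hi, j, hj, rfl⟩ := Submodule.mem_sup.mp hm
    obtain ⟨c, rfl⟩ := Submodule.mem_span_singleton.mp hj
    rw [lie_add, lie_smul]
    exact Submodule.mem_sup_left (I.toSubmodule.add_mem (I.lie_mem hi) (I.toSubmodule.smul_mem c (hy z)))

lemma mem_extendIdeal {I : LieIdeal R L} {y : L} {hy : ∀ z : L, ⁅z, y⁆ ∈ I} {w : L} :
    w ∈ extendIdeal I y hy ↔ ∃ i ∈ I, ∃ c : R, i + c • y = w := by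
  constructor
  · intro hw
    obtain ⟨i, hi, j, hj, rfl⟩ := Submodule.mem_sup.mp hw
    obtain ⟨c, rfl⟩ := Submodule.mem_span_singleton.mp hj
    exact ⟨i, hi, c, rfl⟩
  · rintro ⟨i, hi, c, rfl⟩
    exact Submodule.add_mem_sup hi (Submodule.smul_mem _ c (Submodule.mem_span_singleton_self y))

lemma self_mem_extendIdeal {I : LieIdeal R L} {y : L} {hy : ∀ z : L, ⁅z, y⁆ ∈ I} : y ∈ extendIdeal I y hy :=
  mem_extendIdeal.mpr ⟨0, I.zero_mem, 1, by simp⟩

lemma isSolvable_extendIdeal {I : LieIdeal R L} [LieAlgebra.IsSolvable I] {y : L} {hy : ∀ z : L, ⁅z, y⁆ ∈ I} :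
    LieAlgebra.IsSolvable (extendIdeal I y hy) := by
  obtain ⟨k, hk⟩ := LieAlgebra.IsSolvable.solvable R I
  rw [LieIdeal.derivedSeries_eq_bot_iff] at hk
  refine LieAlgebra.IsSolvable.mk (R := R) (k := k + 1) ?_
  rw [LieIdeal.derivedSeries_eq_bot_iff, LieAlgebra.derivedSeriesOfIdeal_add, eq_bot_iff, ← hk]
  refine LieAlgebra.derivedSeriesOfIdeal_mono ?_ k
  rw [LieAlgebra.derivedSeriesOfIdeal_succ, LieAlgebra.derivedSeriesOfIdeal_zero, LieSubmodule.lie_le_iff]
  intro z _ w hw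
  obtain ⟨i, hi, c, rfl⟩ := mem_extendIdeal.mp hw
  rw [lie_add, lie_smul]
  exact I.add_mem (I.lie_mem hi) (I.smul_mem c (hy z))

lemma ad_restrict_pow (I : LieIdeal R L) (y z : I) (n : ℕ) :
    (((LieAlgebra.ad R I y ^ n) z : I) : L) = (LieAlgebra.ad R L (y : L) ^ n) (z : L) := by
  induction n with
  | zero => rfl
  | succ n ih =>
    rw [pow_succ', pow_succ', Module.End.mul_apply, Module.End.mul_apply, LieAlgebra.ad_apply, LieAlgebra.ad_apply,
      ← ih]
    rfl

lemma isNilpotent_of_forall_ad [IsNoetherian R L] (I : LieIdeal R L)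
    (h : ∀ y ∈ I, IsNilpotent (LieAlgebra.ad R L y)) : LieRing.IsNilpotent I := by
  rw [LieAlgebra.isNilpotent_iff_forall (R := R)]
  rintro ⟨y, hy⟩
  obtain ⟨n, hn⟩ := h y hy
  exact ⟨n, LinearMap.ext fun z ↦ Subtype.ext (by simp [ad_restrict_pow, hn])⟩

lemma ad_isNilpotent_of_mem [IsNoetherian R L] (I : LieIdeal R L) (h : LieRing.IsNilpotent I) {y : L} (hy : y ∈ I) :
    IsNilpotent (LieAlgebra.ad R L y) := by
  obtain ⟨n, hn⟩ := (LieAlgebra.isNilpotent_iff_forall (R := R)).mp h ⟨y, hy⟩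
  refine ⟨n + 1, LinearMap.ext fun z ↦ ?_⟩
  have hz : ⁅y, z⁆ ∈ I := lie_mem_left R L I y z hy
  rw [pow_succ, Module.End.mul_apply, LieAlgebra.ad_apply]
  have := ad_restrict_pow I ⟨y, hy⟩ ⟨_, hz⟩ n
  rw [hn] at this
  simpa using this.symm

end Ideals

section PMap

open PLie

variable {R : Type u} [CommRing R] {p : ℕ} [CharP R p] [hp : Fact p.Prime]
  {L : Type v} [LieRing L] [LieAlgebra R L] (φ : PMap R p L)

omit hp in
lemma radical_ad_iterate (y : L) (n : ℕ) :
    LieAlgebra.ad R L (φ.toFun^[n] y) = LieAlgebra.ad R L y ^ p ^ n := by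
  induction n with
  | zero => simp
  | succ n ih => rw [Function.iterate_succ_apply', φ.ad_map, ih, ← pow_mul, pow_succ]

lemma ad_isNilpotent_of_isPNilpotent {y : L} (hy : IsPNilpotent φ y) : IsNilpotent (LieAlgebra.ad R L y) := by
  obtain ⟨n, hn⟩ := hy
  exact ⟨p ^ n, by rw [← radical_ad_iterate φ, hn, map_zero]⟩

lemma lie_pmap_mem (I : LieIdeal R L) {x : L} (hx : x ∈ I) (z : L) : ⁅z, φ x⁆ ∈ I := by
  rw [← lie_skew, lie_pmap]
  obtain ⟨q, hq⟩ : ∃ q, p = q + 1 := ⟨p - 1, by have := hp.out.one_le; omega⟩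
  rw [show LieAlgebra.ad R L x ^ p = LieAlgebra.ad R L x * LieAlgebra.ad R L x ^ q by rw [← pow_succ', hq],
    Module.End.mul_apply, LieAlgebra.ad_apply]
  exact neg_mem (lie_mem_left R L I _ _ hx)

lemma pmap_mem_radical [IsNoetherian R L] {x : L} (hx : x ∈ LieAlgebra.radical R L) :
    φ x ∈ LieAlgebra.radical R L :=
  ((LieAlgebra.LieIdeal.solvable_iff_le_radical R L (extendIdeal _ _ (lie_pmap_mem φ _ hx))).mp isSolvable_extendIdeal)
    self_mem_extendIdeal

lemma pmap_mem_nilradical [IsNoetherian R L] (N : LieIdeal R L) (hN : LieRing.IsNilpotent N)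
    (hmax : ∀ I : LieIdeal R L, LieRing.IsNilpotent I → I ≤ N) {x : L} (hx : x ∈ N) : φ x ∈ N := by
  have : LieModule.IsNilpotent N L := (LieModule.isNilpotent_iff_forall' (R := R)).mpr fun y ↦ by
    exact ad_isNilpotent_of_mem N hN y.2
  obtain ⟨m, hm⟩ := (LieModule.isNilpotent_iff R N L).mp this
  have hbot : N.lcs L m = ⊥ := by
    rw [← LieSubmodule.toSubmodule_inj, LieIdeal.coe_lcs_eq, hm]
    rfl
  refine hmax (extendIdeal N _ (lie_pmap_mem φ N hx)) (isNilpotent_of_forall_ad _ fun y hy ↦ ?_) self_mem_extendIdeal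
  obtain ⟨i, hi, c, rfl⟩ := mem_extendIdeal.mp hy
  have hstep : ∀ j, ∀ z ∈ N.lcs L j, LieAlgebra.ad R L (i + c • φ x) z ∈ N.lcs L (j + 1) := by
    intro j z hz
    rw [LieAlgebra.ad_apply, add_lie, smul_lie, lie_pmap]
    have h1 : ∀ w ∈ N, ∀ z' ∈ N.lcs L j, ⁅w, z'⁆ ∈ N.lcs L (j + 1) := fun w hw z' hz' ↦ by
      rw [LieIdeal.lcs_succ]
      exact LieSubmodule.lie_mem_lie hw hz'
    refine add_mem (h1 _ hi _ hz) ((N.lcs L (j + 1)).smul_mem c ?_)
    obtain ⟨q, hq⟩ : ∃ q, p = q + 1 := ⟨p - 1, by have := hp.out.one_le; omega⟩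
    rw [show LieAlgebra.ad R L x ^ p = LieAlgebra.ad R L x * LieAlgebra.ad R L x ^ q by rw [← pow_succ', hq],
      Module.End.mul_apply]
    refine h1 _ hx _ ?_
    clear hq
    induction q with
    | zero => simpa using hz
    | succ r ih =>
      rw [pow_succ', Module.End.mul_apply]
      exact (N.lcs L j).lie_mem ih
  have hj : ∀ j z, (LieAlgebra.ad R L (i + c • φ x) ^ j) z ∈ N.lcs L j := by
    intro j
    induction j with
    | zero => intro z; simp
    | succ j ih => intro z; rw [pow_succ', Module.End.mul_apply]; exact hstep j _ (ih z)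
  refine ⟨m, LinearMap.ext fun z ↦ ?_⟩
  have := hj m z
  rw [hbot] at this
  simpa using this

end PMap

end Groth.PLieAlg
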